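import Groth.Agent.PinchLib.Modules
import Groth.Agent.S5134
import Groth.Agent.QCoh.FiniteType
import Mathlib.AlgebraicGeometry.Morphisms.UniversallyOpen

/-!
Descent of finiteness properties of quasi-coherent modules along jointly surjective families of flat,
locally finitely presented morphisms, and the comparison of the two notions of local freeness of finite
rank.
-/

set_option autoImplicit false
set_option linter.style.haveILetI false
set_option backward.isDefEq.respectTransparency false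
set_option linter.unusedSectionVars false

universe u

open CategoryTheory CategoryTheory.Limits AlgebraicGeometry Opposite TopologicalSpace
open scoped TensorProduct

noncomputable section

namespace Groth.Agent.StModLib

variable {X : Scheme.{u}}

/-- The linear equivalence on sections induced by an isomorphism of modules. -/
def secEquivOfIso {M N : X.Modules} (e : M ≅ N) (U : X.Opens) : Γ(M, U) ≃ₗ[Γ(X, U)] Γ(N, U) :=
  LinearEquiv.ofLinearMap
    { toFun := fun x => e.hom.app U x
      map_add' := map_add _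
      map_smul' := fun r x => Scheme.Modules.Hom.app_smul e.hom r x }
    { toFun := fun x => e.inv.app U x
      map_add' := map_add _
      map_smul' := fun r x => Scheme.Modules.Hom.app_smul e.inv r x }
    (LinearMap.ext fun x => show (e.inv ≫ e.hom).app U x = x by rw [e.inv_hom_id]; rfl)
    (LinearMap.ext fun x => show (e.hom ≫ e.inv).app U x = x by rw [e.hom_inv_id]; rfl)

/-- Around every point there is an affine open with a faithfully flat affine chart from the family, over
which the module of the family is the base change of the module on `X`. -/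
theorem exists_ff_chart {κ : Type*} {T : κ → Scheme.{u}} (g : ∀ j, T j ⟶ X)
    (hfl : ∀ j, Flat (g j)) (hfp : ∀ j, LocallyOfFinitePresentation (g j))
    (hs : ∀ x : X, ∃ j, x ∈ Set.range (g j))
    (M : X.Modules) [M.IsQuasicoherent] (N : ∀ j, (T j).Modules)
    (e : ∀ j, (Scheme.Modules.pullback (g j)).obj M ≅ N j) (y : X) :
    ∃ (W : X.Opens) (_ : IsAffineOpen W) (_ : y ∈ W) (j : κ) (A : (T j).Opens) (_ : IsAffineOpen A)
      (a : Algebra Γ(X, W) Γ(T j, A)),
      @Module.FaithfullyFlat Γ(X, W) Γ(T j, A) _ _ a.toModule ∧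
        Nonempty (Γ(T j, A) ⊗[Γ(X, W)] Γ(M, W) ≃ₗ[Γ(T j, A)] Γ(N j, A)) := by
  obtain ⟨j, x, rfl⟩ := hs y
  have := hfl j
  have := hfp j
  obtain ⟨W₀, hW₀, hxW₀⟩ := PinchLib.exists_affine_nhd (g j x)
  obtain ⟨_, ⟨A₀, hA₀, rfl⟩, hxA₀, hA₀le⟩ :=
    (T j).isBasis_affineOpens.exists_subset_of_mem_open (show x ∈ ((g j) ⁻¹ᵁ W₀ : Set (T j)) from hxW₀)
      ((g j) ⁻¹ᵁ W₀).2
  have : UniversallyOpen (g j) := inferInstance
  let I : X.Opens := ⟨(g j) '' (A₀ : Set (T j)), Scheme.Hom.isOpenMap (g j) _ A₀.2⟩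
  obtain ⟨r, hrle, hxr⟩ := hW₀.exists_basicOpen_le ⟨g j x, (show g j x ∈ I from ⟨x, hxA₀, rfl⟩)⟩ hxW₀
  let W := X.basicOpen r
  have hW : IsAffineOpen W := hW₀.basicOpen r
  let A := (T j).basicOpen ((g j).appLE W₀ A₀ hA₀le r)
  have hA : IsAffineOpen A := hA₀.basicOpen _
  have hAeq : A = A₀ ⊓ (g j) ⁻¹ᵁ W := by
    show (T j).basicOpen _ = _
    rw [Scheme.Hom.appLE, CommRingCat.comp_apply, Scheme.basicOpen_res, Scheme.preimage_basicOpen]
  have hle : A ≤ (g j) ⁻¹ᵁ W := hAeq.le.trans inf_le_right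
  refine ⟨W, hW, hxr, j, A, hA, ((g j).appLE W A hle).hom.toAlgebra, ?_, ?_⟩
  · letI := ((g j).appLE W A hle).hom.toAlgebra
    rw [← RingHom.faithfullyFlat_algebraMap_iff, RingHom.FaithfullyFlat.iff_flat_and_comap_surjective]
    refine ⟨HasRingHomProperty.appLE @Flat (g j) inferInstance ⟨W, hW⟩ ⟨A, hA⟩ hle, fun p => ?_⟩
    have hz : hW.fromSpec.base p ∈ W := hW.range_fromSpec.le ⟨p, rfl⟩
    obtain ⟨z, hzA, hz'⟩ := hrle hz
    have hzA' : z ∈ A := hAeq.ge ⟨hzA, by show g j z ∈ W; rw [hz']; exact hz⟩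
    obtain ⟨q, rfl⟩ : z ∈ Set.range hA.fromSpec.base := hA.range_fromSpec.ge hzA'
    refine ⟨q, hW.fromSpec.isOpenEmbedding.injective ?_⟩
    have := congrArg (fun m : Spec Γ(T j, A) ⟶ X => m.base q) (hW.SpecMap_appLE_fromSpec (g j) hA hle)
    exact this.trans hz'
  · letI := ((g j).appLE W A hle).hom.toAlgebra
    letI := LimTop.secModule (g j) M hle
    haveI : IsScalarTower Γ(X, W) Γ(T j, A) Γ((Scheme.Modules.pullback (g j)).obj M, A) :=
      IsScalarTower.of_algebraMap_smul fun _ _ => rfl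
    exact ⟨(LimTop.isBaseChange_unitSec (g j) M hle hW hA).equiv.trans (secEquivOfIso (e j) A)⟩

section Descent

variable {κ : Type*} {T : κ → Scheme.{u}} (g : ∀ j, T j ⟶ X)
  (hfl : ∀ j, Flat (g j)) (hfp : ∀ j, LocallyOfFinitePresentation (g j))
  (hs : ∀ x : X, ∃ j, x ∈ Set.range (g j))
  (M : X.Modules) [M.IsQuasicoherent] (N : ∀ j, (T j).Modules) [∀ j, (N j).IsQuasicoherent]
  (e : ∀ j, (Scheme.Modules.pullback (g j)).obj M ≅ N j)

include hfl hfp hs e

theorem isFiniteType_of_family (h : ∀ j, SheafOfModules.IsFiniteType.{u} (N j)) :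
    SheafOfModules.IsFiniteType.{u} M := by
  refine QCoh.isFiniteType_of_forall_exists M fun y => ?_
  obtain ⟨W, hW, hy, j, A, hA, a, hff, ⟨l⟩⟩ := exists_ff_chart g hfl hfp hs M N e y
  haveI := h j
  haveI := QCoh.finite_sections_of_isFiniteType (N j) hA
  letI := a
  haveI := hff
  haveI := Module.Finite.equiv l.symm
  exact ⟨W, hW, hy, Module.Finite.of_finite_tensorProduct_of_faithfullyFlat Γ(T j, A)⟩

theorem isFP_of_family (h : ∀ j, SheafOfModules.IsFinitePresentation.{u} (N j)) :
    SheafOfModules.IsFinitePresentation.{u} M := by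
  refine Props.QFP.isFP_of_forall_exists M fun y => ?_
  obtain ⟨W, hW, hy, j, A, hA, a, hff, ⟨l⟩⟩ := exists_ff_chart g hfl hfp hs M N e y
  haveI := h j
  haveI := Props.QFP.finitePresentation_sections_of_isFP (N j) hA
  letI := a
  haveI := hff
  haveI : Module.FinitePresentation Γ(T j, A) (Γ(T j, A) ⊗[Γ(X, W)] Γ(M, W)) := .of_equiv l.symm
  exact ⟨W, hW, hy, Groth.Agent.S5134.finitePresentation_of_faithfullyFlat Γ(T j, A)⟩

theorem isFinLocFree_of_family (h : ∀ j, FlatMod.IsFinLocFree (N j)) : FlatMod.IsFinLocFree M := by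
  refine PinchLib.isFinLocFree_of_sections fun y => ?_
  obtain ⟨W, hW, hy, j, A, hA, a, hff, ⟨l⟩⟩ := exists_ff_chart g hfl hfp hs M N e y
  haveI := Props.QProj.finitePresentation_sections (N j) (h j) hA
  haveI := Props.QProj.projective_sections (N j) (h j) hA
  letI := a
  haveI := hff
  haveI : Module.FinitePresentation Γ(T j, A) (Γ(T j, A) ⊗[Γ(X, W)] Γ(M, W)) := .of_equiv l.symm
  haveI : Module.Flat Γ(T j, A) (Γ(T j, A) ⊗[Γ(X, W)] Γ(M, W)) := .of_linearEquiv l
  exact ⟨W, hW, hy, Groth.Agent.S5134.finitePresentation_of_faithfullyFlat Γ(T j, A),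
    Module.Flat.of_flat_tensorProduct Γ(X, W) Γ(M, W) Γ(T j, A)⟩

end Descent

theorem isIso_generatorsOfIso {Z : Scheme.{u}} {M N : Z.Modules} (e : M ≅ N) (P : M.GeneratingSections)
    (h : IsIso P.π) : IsIso (QCoh.generatorsOfIso e P).π := by
  let e' : @Iso (SheafOfModules.{u} Z.ringCatSheaf) _ M N := e
  haveI he : @IsIso (SheafOfModules.{u} Z.ringCatSheaf) _ _ _ e'.hom := Iso.isIso_hom e'
  haveI hP : @IsIso (SheafOfModules.{u} Z.ringCatSheaf) _ _ _ P.π := h
  show IsIso (P.ofEpi e'.hom).π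
  rw [SheafOfModules.GeneratingSections.ofEpi_π]
  exact @IsIso.comp_isIso (SheafOfModules.{u} Z.ringCatSheaf) _ _ _ _ _ _ hP he

theorem isIso_generatorsOver (M : X.Modules) (U : X.Opens) (P : (M.restrict U.ι).GeneratingSections)
    (h : IsIso P.π) : IsIso (QCoh.generatorsOver M U P).π := by
  haveI : @IsIso (SheafOfModules.{u} U.toScheme.ringCatSheaf) _ _ _ P.π := h
  unfold QCoh.generatorsOver
  dsimp only
  rw [SheafOfModules.GeneratingSections.ofEpi_π]
  infer_instance

theorem isIso_generatorsRestrict (M : X.Modules) (U : X.Opens) (P : (M.over U).GeneratingSections)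
    (h : IsIso P.π) : IsIso (QCoh.generatorsRestrict M U P).π := by
  haveI := h
  unfold QCoh.generatorsRestrict
  exact isIso_generatorsOfIso _ _ inferInstance

/-- Finite locally free modules are locally free and of finite type in Mathlib's sense. -/
theorem isLocallyFree_of_isFinLocFree (M : X.Modules) (h : FlatMod.IsFinLocFree M) :
    SheafOfModules.IsLocallyFree (R := X.ringCatSheaf) M := by
  choose U n hU e using h
  let P : ∀ x, (M.restrict (U x).ι).GeneratingSections := fun x =>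
    QCoh.generatorsOfIso ((e x).some ≪≫ (Props.QProj.freeModIso _ (n x)).symm).symm
      (SheafOfModules.free.generatingSections (R := (U x).toScheme.ringCatSheaf) (ULift.{u} (Fin (n x))))
  let σ : SheafOfModules.LocalGeneratorsData.{u} M :=
    { I := X
      X := U
      coversTop := (Opens.coversTop_iff (U := U)).mpr (top_le_iff.mp fun x _ ↦ Opens.mem_iSup.mpr ⟨x, hU x⟩)
      generators := fun x => QCoh.generatorsOver M (U x) (P x) }
  haveI : SheafOfModules.LocalGeneratorsData.IsLocallyFreeData.{u} σ :=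
    { isIso := fun x : X => isIso_generatorsOver M (U x) (P x) (isIso_generatorsOfIso _ _ inferInstance) }
  exact σ.isLocallyFree

/-- A quasi-coherent locally free module of finite type is finite locally free. -/
theorem isFinLocFree_of_isLocallyFree (M : X.Modules) [M.IsQuasicoherent]
    [SheafOfModules.IsFiniteType.{u} M] (h : SheafOfModules.IsLocallyFree (R := X.ringCatSheaf) M) :
    FlatMod.IsFinLocFree M := by
  obtain ⟨σ, hσ⟩ := h.exists_isLocallyFreeData
  intro x
  have hc := (Opens.coversTop_iff (U := σ.X)).mp σ.coversTop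
  obtain ⟨i, hi⟩ : ∃ i, x ∈ σ.X i := Opens.mem_iSup.mp (hc.ge (trivial : x ∈ (⊤ : X.Opens)))
  obtain ⟨_, ⟨W, hW, rfl⟩, hxW, hWV⟩ := X.isBasis_affineOpens.exists_subset_of_mem_open hi (σ.X i).2
  let V : X.Opens := σ.X i
  let G := QCoh.generatorsRestrict M V (σ.generators i)
  haveI hG : IsIso G.π := isIso_generatorsRestrict M V _ (hσ.isIso i)
  have := hW.isOpenImmersion_fromSpec
  let t := IsOpenImmersion.lift V.ι hW.fromSpec
    (by rw [hW.range_fromSpec, Scheme.Opens.range_ι]; exact hWV)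
  have : IsOpenImmersion t := by
    have : IsOpenImmersion (t ≫ V.ι) := by rw [IsOpenImmersion.lift_fac]; assumption
    exact IsOpenImmersion.of_comp t V.ι
  let eG : (SheafOfModules.free.{u} (R := V.toScheme.ringCatSheaf) G.I : V.toScheme.Modules) ≅ M.restrict V.ι :=
    asIso G.π
  let e₁ : QCoh.toSpec hW M ≅ (SheafOfModules.free.{u} G.I : (Spec Γ(X, W)).Modules) :=
    (((Scheme.Modules.restrictFunctorComp t V.ι).symm ≪≫
      Scheme.Modules.restrictFunctorCongr (IsOpenImmersion.lift_fac _ _ _)).app M).symm ≪≫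
      (Scheme.Modules.restrictFunctor t).mapIso eG.symm ≪≫ Props.QProj.restrictFreeIso t _
  let e₂ : Γ(M, W) ≃ₗ[Γ(X, W)] (G.I →₀ Γ(X, W)) :=
    (QCoh.toSpecTopLinearEquiv hW M).symm ≪≫ₗ Props.QFP.topEquivOfIso e₁ ≪≫ₗ
      (Props.QFP.topEquivOfIso (tildeFinsupp G.I)).symm ≪≫ₗ
      (tilde.isoTop (ModuleCat.of Γ(X, W) (G.I →₀ Γ(X, W)))).toLinearEquiv.symm
  let b : Module.Basis G.I Γ(X, W) Γ(M, W) := Module.Basis.ofRepr e₂
  haveI : Nontrivial Γ(X, W) := by
    have : Nonempty (W : Scheme.{u}) := ⟨⟨x, hxW⟩⟩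
    infer_instance
  haveI := QCoh.finite_sections_of_isFiniteType M hW
  haveI : Finite G.I := Module.Finite.finite_basis b
  obtain ⟨n, hn⟩ := Props.QProj.nonempty_restrict_iso_free M hW
    (b.reindex (Finite.equivFin G.I))
  exact ⟨W, n, hxW, hn⟩

end Groth.Agent.StModLib
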