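import Groth.Prelude.Def_StMod
import Groth.Prelude.Def_AlgSp3
import Groth.Agent.StFib.Yoneda
import Groth.Agent.StFib.Fibre

/-!
Terminal objects in the categories of pairs `(ξ, π ξ ⟶ η)` for morphisms representable by schemes
over affine bases.
-/

set_option autoImplicit false
set_option backward.isDefEq.respectTransparency false
set_option backward.isDefEq.respectTransparency.types false

universe u

open CategoryTheory CategoryTheory.Limits AlgebraicGeometry Opposite FibCat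

namespace Groth.Agent.StModLib

variable {S : Scheme.{u}}

/-- A representable sheaf has a terminal section. -/
theorem exists_terminal_ofSp {F : AlgSp.Sp S} {W : Over S} (a : (AlgSp.yon S).obj W ⟶ F) [IsIso a] :
    ∃ t : (AlgSt.ofSp F).obj, t.base = W ∧ ∀ x, Nonempty (Unique (x ⟶ t)) := by
  refine ⟨⟨W, a.hom.app (op W) ⟨𝟙 W⟩⟩, rfl, fun x => ?_⟩
  let g : x.base ⟶ W := ((inv a).hom.app (op x.base) x.sec).down
  have key : ∀ k : x.base ⟶ W,
      F.obj.map k.op (a.hom.app (op W) ⟨𝟙 W⟩) = a.hom.app (op x.base) ⟨k⟩ := fun k => by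
    rw [← NatTrans.naturality_apply a.hom k.op]
    congr 1
  have h1 : a.hom.app (op x.base) ((inv a).hom.app (op x.base) x.sec) = x.sec := by
    rw [← ConcreteCategory.comp_apply, ← NatTrans.comp_app, ← ObjectProperty.FullSubcategory.comp_hom,
      IsIso.inv_hom_id]
    rfl
  refine ⟨⟨⟨⟨g, (key g).trans h1⟩⟩, fun f => ?_⟩⟩
  apply Stk.EltObj.hom_ext
  show f.hom = g
  have h2 : x.sec = a.hom.app (op x.base) ⟨f.hom⟩ := f.map_sec.symm.trans (key f.hom)
  have h3 : (inv a).hom.app (op x.base) x.sec = ⟨f.hom⟩ := by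
    rw [h2, ← ConcreteCategory.comp_apply, ← NatTrans.comp_app, ← ObjectProperty.FullSubcategory.comp_hom,
      IsIso.hom_inv_id]
    rfl
  exact (congrArg ULift.down h3).symm

variable {𝒳 𝒴 : AlgSt.Cat S}

/-- Over an affine base the category of pairs of a morphism representable by schemes has a terminal
object. -/
theorem exists_terminal_pair {P : MorphismProperty (AlgSp.Sp S)} (R : Scheme.{u} → Prop)
    (hP : ∀ {F : AlgSp.Sp S} {Z : Over S} (a : F ⟶ (AlgSp.yon S).obj Z), P a → IsAffine Z.left →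
      ∃ (W : Over S) (b : (AlgSp.yon S).obj W ⟶ F), IsIso b ∧ R W.left)
    (h𝒴 : IsFibGrpd 𝒴.p) (π : 𝒳 ⥤ᵇ 𝒴) (hπ : AlgSt.RepByAlgSpWith P π)
    (η : 𝒴.obj) (hη : IsAffine (StMod.sch 𝒴 η)) :
    ∃ (w : 𝒳.obj) (α : π.obj w ⟶ η), R (StMod.sch 𝒳 w) ∧
      ∀ (ξ : 𝒳.obj) (β : π.obj ξ ⟶ η), ∃! φ : ξ ⟶ w, π.map φ ≫ α = β := by
  obtain ⟨y, i, hi⟩ := StFib.exists_overFunctor h𝒴 η rfl
  obtain ⟨F, e, he, hPF⟩ := hπ (𝒴.p.obj η) y
  obtain ⟨W, b, hb, hR⟩ := hP _ hPF hη
  obtain ⟨t₀, ht₀, hu₀⟩ := exists_terminal_ofSp b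
  have := StFib.isEquivalence_of_isEquivOver he
  let x : (fp y π).obj := e.obj t₀
  have hterm : ∀ z : (fp y π).obj, Nonempty (Unique (z ⟶ x)) := fun z => by
    obtain ⟨hu⟩ := hu₀ (e.toFunctor.objPreimage z)
    let j := e.toFunctor.objObjPreimageIso z
    refine ⟨⟨⟨j.inv ≫ e.map default⟩, fun f => ?_⟩⟩
    show f = j.inv ≫ e.map default
    rw [Iso.eq_inv_comp, ← e.toFunctor.map_preimage (j.hom ≫ f)]
    exact congrArg e.map (hu.uniq _)
  -- the structure morphism of the terminal pair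
  have hv : StFib.Vert x.obj.iso.hom := StFib.vert_fp_iso x
  let α : π.obj x.obj.snd ⟶ η := x.obj.iso.inv ≫ y.map (StFib.overToId x.obj.fst) ≫ i.hom
  refine ⟨x.obj.snd, α, ?_, fun ξ β => ?_⟩
  · have h1 : (fp y π).p.obj x = W := (e.w_obj t₀).trans ht₀
    have h2 : 𝒳.p.obj x.obj.snd = W := (StFib.fp_base_eq x).symm.trans h1
    show R (𝒳.p.obj x.obj.snd).left
    rw [h2]
    exact hR
  · -- the object of the fibre product attached to a pair
    let g : Over (𝒴.p.obj η) := Over.mk (StMod.baseOver π ξ β)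
    obtain ⟨χ, hχ, hfac⟩ := StFib.grpd_exists_vert_fac h𝒴 β (y.map (StFib.overToId g) ≫ i.hom)
      ((y.w_obj g).trans (π.w_obj ξ).symm) (by
        simp [StFib.w_map, hi.2, g, StMod.baseOver, StFib.overToId, FibCat.overCat, BasedCategory.ofFunctor])
    let z : (fp y π).obj := StFib.fpMk g ξ χ hχ
    obtain ⟨hz⟩ := hterm z
    have hsq : ∀ f : z ⟶ x, π.map f.hom.snd ≫ α = β := fun f => by
      have hw : y.map f.hom.fst ≫ x.obj.iso.hom = χ.hom ≫ π.map f.hom.snd := f.hom.w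
      have hk : f.hom.fst ≫ StFib.overToId x.obj.fst = StFib.overToId g :=
        Over.OverMorphism.ext (StFib.over_w f.hom.fst)
      rw [← cancel_epi χ.hom, ← Category.assoc, ← hw, hfac]
      simp only [α, Category.assoc, Iso.hom_inv_id_assoc]
      rw [← Functor.map_comp_assoc, hk]
    refine ⟨(default : z ⟶ x).hom.snd, hsq _, fun φ hφ => ?_⟩
    -- a competitor defines a morphism of the fibre product
    have hb' : 𝒳.p.map φ ≫ StMod.baseOver π x.obj.snd α = StMod.baseOver π ξ β := by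
      rw [StMod.map_comp_baseOver, hφ]
    have hbα : StMod.baseOver π x.obj.snd α = eqToHom (StFib.fp_base_eq x).symm ≫ x.obj.fst.hom := by
      have h3 : 𝒴.p.map x.obj.iso.inv = eqToHom hv.base_eq.symm := by
        rw [← cancel_epi (𝒴.p.map x.obj.iso.hom), ← Functor.map_comp, Iso.hom_inv_id,
          CategoryTheory.Functor.map_id, hv.2]
        simp
      simp [StMod.baseOver, α, h3, StFib.w_map, hi.2, StFib.overToId, FibCat.overCat, BasedCategory.ofFunctor]
    let a : g ⟶ x.obj.fst := Over.homMk (𝒳.p.map φ ≫ eqToHom (StFib.fp_base_eq x).symm) (by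
      show (_ ≫ _) ≫ x.obj.fst.hom = StMod.baseOver π ξ β
      rw [← hb', hbα, Category.assoc])
    let f : z ⟶ x := StFib.fpHom a φ (by
      show y.map a ≫ x.obj.iso.hom = χ.hom ≫ π.map φ
      apply StFib.grpd_cancel h𝒴 α
      · have hk : a ≫ StFib.overToId x.obj.fst = StFib.overToId g :=
          Over.OverMorphism.ext (StFib.over_w a)
        simp only [α, Category.assoc, Iso.hom_inv_id_assoc]
        rw [← Functor.map_comp_assoc, hk, ← hfac, ← hφ]
      · simp [StFib.w_map, hv.2, hχ.2, a, FibCat.overCat, BasedCategory.ofFunctor])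
    show f.hom.snd = _
    rw [hz.uniq f]

theorem exists_affine_of_isAffineMor {F : AlgSp.Sp S} {Z : Over S} (a : F ⟶ (AlgSp.yon S).obj Z)
    (ha : AlgSp.IsAffineMor a) (hZ : IsAffine Z.left) :
    ∃ (W : Over S) (b : (AlgSp.yon S).obj W ⟶ F), IsIso b ∧ IsAffine W.left := by
  obtain ⟨W, i, fst, sq, hW⟩ := ha hZ (𝟙 _)
  exact ⟨W, fst, sq.isIso_fst_of_isIso, hW⟩

theorem exists_quasiAffine_of_isQuasiAffineMor {F : AlgSp.Sp S} {Z : Over S}
    (a : F ⟶ (AlgSp.yon S).obj Z) (ha : AlgSp.IsQuasiAffineMor a) (hZ : IsAffine Z.left) :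
    ∃ (W : Over S) (b : (AlgSp.yon S).obj W ⟶ F), IsIso b ∧ W.left.IsQuasiAffine := by
  obtain ⟨W, i, fst, sq, hW⟩ := ha hZ (𝟙 _)
  exact ⟨W, fst, sq.isIso_fst_of_isIso, hW⟩

end Groth.Agent.StModLib
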