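import Groth.Prelude.Def_StMod
import Groth.Agent.PullStalk.Basic
import Mathlib.RingTheory.Flat.FaithfullyFlat.Algebra

/-!
Sections of cartesian modules on a category over schemes are detected on jointly surjective families of
flat morphisms.
-/

set_option autoImplicit false
set_option linter.style.haveILetI false
set_option backward.isDefEq.respectTransparency false
set_option backward.isDefEq.respectTransparency.types false

universe u

open CategoryTheory AlgebraicGeometry TopologicalSpace Opposite
open Groth.Agent.PullStalk.Sky Groth.Agent.PullStalk.Basic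

namespace Groth.Agent.StModLib

/-- The unit of pullback of modules is injective on stalks along flat morphisms. -/
theorem unitStalkHom_injective {X Y : Scheme.{u}} (f : X ⟶ Y) [Flat f] (M : Y.Modules) (x : X) :
    Function.Injective (unitStalkHom f M x) := by
  letI := (f.stalkMap x).hom.toAlgebra
  letI := moduleOver f M x
  haveI : IsScalarTower (Y.presheaf.stalk (f x)) (X.presheaf.stalk x)
      (((Scheme.Modules.pullback f).obj M).presheaf.stalk x) :=
    IsScalarTower.of_algebraMap_smul fun _ _ => rfl
  haveI : Module.FaithfullyFlat (Y.presheaf.stalk (f x)) (X.presheaf.stalk x) :=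
    @Module.FaithfullyFlat.of_flat_of_isLocalHom _ _ _ _ _ _ _ (Flat.stalkMap f x) (f.toLRSHom.prop x)
  have hb := isBaseChange_unitStalk f M x
  intro a b h
  apply Module.FaithfullyFlat.tensorProduct_mk_injective (A := Y.presheaf.stalk (f x))
    (B := X.presheaf.stalk x) (M.presheaf.stalk (f x))
  apply hb.equiv.injective
  simp only [TensorProduct.mk_apply, IsBaseChange.equiv_tmul, one_smul]
  exact h

variable {S : Scheme.{u}} {𝒳 : BasedCategory.{u, u + 1} (Over S)}

/-- A section of a cartesian module vanishes as soon as it vanishes on a jointly surjective family of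
flat morphisms. -/
theorem eq_zero_of_flat_family {F : StMod.Mod 𝒳} (hF : F.IsCartesian) {ξ : 𝒳.obj}
    (U : (StMod.sch 𝒳 ξ).Opens) (n : Γ(F.obj ξ, U))
    (h : ∀ y ∈ U, ∃ (ξ' : 𝒳.obj) (ψ : ξ' ⟶ ξ), Flat (StMod.bmap 𝒳 ψ) ∧
      y ∈ Set.range (StMod.bmap 𝒳 ψ) ∧ (F.map ψ rfl).app U n = 0) : n = 0 := by
  refine TopCat.Presheaf.section_ext ⟨F.obj ξ |>.presheaf, (F.obj ξ).isSheaf⟩ U n 0 fun y hy => ?_
  rw [map_zero]
  obtain ⟨ξ', ψ, hfl, ⟨x, rfl⟩, hn⟩ := h y hy
  let g := StMod.bmap 𝒳 ψ
  have : Flat g := hfl
  let t := ((Scheme.Modules.pullbackPushforwardAdjunction g).homEquiv _ _).symm (F.map ψ rfl)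
  haveI : IsIso t := hF ψ rfl
  have ht : F.map ψ rfl = (Scheme.Modules.pullbackPushforwardAdjunction g).unit.app (F.obj ξ) ≫
      (Scheme.Modules.pushforward g).map t := by
    exact ((((Scheme.Modules.pullbackPushforwardAdjunction g).homEquiv _ _).apply_symm_apply _).symm).trans
      (Adjunction.homEquiv_unit _ _ _ t)
  rw [ht] at hn
  have hu : ((Scheme.Modules.pullbackPushforwardAdjunction g).unit.app (F.obj ξ)).app U n = 0 := by
    have hi : IsIso (t.app (g ⁻¹ᵁ U)) := inferInstance
    apply (ConcreteCategory.bijective_of_isIso (t.app (g ⁻¹ᵁ U))).1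
    refine Eq.trans ?_ (map_zero _).symm
    exact hn
  apply unitStalkHom_injective g (F.obj ξ) x
  rw [map_zero]
  refine Eq.trans (unitStalkHom_germ g (F.obj ξ) x U hy n) ?_
  rw [hu]
  exact map_zero _

end Groth.Agent.StModLib
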